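import Groth.Agent.EtPBC.H2Surj
import Groth.Agent.EtPBC.KummerConst
import Groth.Agent.EtPBC.GmPull
import Groth.Agent.EtMV.ConstUnit
import Groth.Agent.EtPBC.CdDev
import Groth.Agent.S0108
import Mathlib

/-!
# Torsion in degree two of the units from surjectivity on Picard groups
-/

set_option autoImplicit false
set_option backward.isDefEq.respectTransparency false
set_option backward.isDefEq.respectTransparency.types false
set_option linter.auxLemma false
set_option linter.style.haveILetI false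

universe u

open CategoryTheory CategoryTheory.Limits CategoryTheory.Abelian AlgebraicGeometry Opposite
open Groth.Agent.EtFLC (res res_res res_id)
open Groth.Agent.EtPicLib (uval uval_res uval_injective)

noncomputable section

namespace Groth.Agent.EtPBC

attribute [local instance 100000] EtCoh.H._proof_1 EtMV.hext
attribute [local instance 200000] EtMV.hextAb

variable {X Z : Scheme.{u}}

variable (i : Z ⟶ X) [PreservesFiniteLimits (EtCoh.pull i)]

/-- **no torsion in degree two from the closed fibre** -/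
theorem eq_zero_of_nsmul_H2_Gm (n : ℕ) (hn : 1 ≤ n) (hu : IsUnit (n : Γ(X, ⊤))) (ζ : Γ(X, ⊤))
    (hζ : Polynomial.aeval ζ (Polynomial.cyclotomic n ℤ) = 0)
    (hpic : Function.Surjective (gmH i))
    (htor : ∀ c : EtCoh.H Z (EtCoh.Gm Z) 2, n • c = 0 → c = 0)
    (hinj : Function.Injective (EtCore.Hpull i (EtCoh.const X (ZMod n)) 2))
    (x : EtCoh.H X (EtCoh.Gm X) 2) (hx : n • x = 0) : x = 0 := by
  have huZ : IsUnit (n : Γ(Z, ⊤)) := by
    have := hu.map i.appTop.hom
    rwa [map_natCast] at this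
  have hζZ : Polynomial.aeval (i.appTop ζ) (Polynomial.cyclotomic n ℤ) = 0 := by
    rw [show i.appTop ζ = i.appTop.hom.toIntAlgHom ζ from rfl, Polynomial.aeval_algHom_apply, hζ, map_zero]
  obtain ⟨eX, heX⟩ := exists_kummer_const n hn hu ζ hζ
  obtain ⟨eZ, heZ⟩ := exists_kummer_const n hn huZ (i.appTop ζ) hζZ
  haveI : Epi (EtCoh.powMap X n) := Groth.Agent.S0108.result X n hu
  haveI : Epi (EtCoh.powMap Z n) := Groth.Agent.S0108.result Z n huZ
  let SX : ShortComplex (EtCoh.Ab X) := ShortComplex.mk (eX.hom ≫ EtCoh.muι X n) (EtCoh.powMap X n)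
    (by rw [Category.assoc, EtCoh.muι, kernel.condition, comp_zero])
  let SZ : ShortComplex (EtCoh.Ab Z) := ShortComplex.mk (eZ.hom ≫ EtCoh.muι Z n) (EtCoh.powMap Z n)
    (by rw [Category.assoc, EtCoh.muι, kernel.condition, comp_zero])
  have hSX : SX.ShortExact := by
    haveI : Mono (EtCoh.muι X n) := inferInstanceAs (Mono (kernel.ι (EtCoh.powMap X n)))
    haveI : Mono SX.f := inferInstanceAs (Mono (eX.hom ≫ EtCoh.muι X n))
    haveI : Epi SX.g := inferInstanceAs (Epi (EtCoh.powMap X n))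
    exact { exact := (ShortComplex.exact_iff_of_iso (ShortComplex.isoMk (S₁ := SX)
      (S₂ := ShortComplex.mk _ _ (kernel.condition (EtCoh.powMap X n))) eX (Iso.refl _) (Iso.refl _)
      (Category.comp_id _).symm (by simp [SX]))).2 (ShortComplex.exact_of_f_is_kernel _ (kernelIsKernel _)) }
  have hSZ : SZ.ShortExact := by
    haveI : Mono (EtCoh.muι Z n) := inferInstanceAs (Mono (kernel.ι (EtCoh.powMap Z n)))
    haveI : Mono SZ.f := inferInstanceAs (Mono (eZ.hom ≫ EtCoh.muι Z n))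
    haveI : Epi SZ.g := inferInstanceAs (Epi (EtCoh.powMap Z n))
    exact { exact := (ShortComplex.exact_iff_of_iso (ShortComplex.isoMk (S₁ := SZ)
      (S₂ := ShortComplex.mk _ _ (kernel.condition (EtCoh.powMap Z n))) eZ (Iso.refl _) (Iso.refl _)
      (Category.comp_id _).symm (by simp [SZ]))).2 (ShortComplex.exact_of_f_is_kernel _ (kernelIsKernel _)) }
  haveI : (EtCoh.pull i).Additive := (EtCoh.pullPushAdj i).left_adjoint_additive
  have hsq : (EtCoh.pull i).map (eX.hom ≫ EtCoh.muι X n) ≫ gmCmp i =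
      (EtCore.pullConst i (ZMod n)).hom ≫ eZ.hom ≫ EtCoh.muι Z n := by
    apply ((EtCoh.pullPushAdj i).homEquiv (EtCoh.const X (ZMod n)) (EtCoh.Gm Z)).injective
    rw [Adjunction.homEquiv_unit, Adjunction.homEquiv_unit, Functor.map_comp (EtCoh.push i),
      Functor.map_comp (EtCoh.push i), Adjunction.unit_naturality_assoc, unit_gmCmp, ← Category.assoc]
    refine const_hom_ext _ _ fun m => ?_
    obtain ⟨m, rfl⟩ := ZMod.intCast_surjective m
    show (gmPush i).hom.app _ (((EtCoh.muι X n).hom.app (op (EtCoh.top X))).hom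
        (eX.hom.hom.app (op (EtCoh.top X)) (EtMV.cst (EtCoh.top X) (m : ZMod n)))) =
      (eZ.hom ≫ EtCoh.muι Z n).hom.app (op ((EtCoh.bc i).obj (EtCoh.top X)))
        ((EtMV.cUnit i (ZMod n)).hom.app (op (EtCoh.top X)) (EtMV.cst (EtCoh.top X) (m : ZMod n)))
    rw [EtMV.cUnit_cst, ← EtMV.res_cst (EtMV.toTop ((EtCoh.bc i).obj (EtCoh.top X))) (m : ZMod n)]
    refine uval_injective (Eq.trans ?_ (congrArg uval (EtFLC.app_res (eZ.hom ≫ EtCoh.muι Z n) _ _)).symm)
    rw [uval_res]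
    show (pullback.fst (EtCoh.top X).hom i).appTop (uval _) =
      (EtMV.toTop ((EtCoh.bc i).obj (EtCoh.top X))).left.appTop (uval (((EtCoh.muι Z n).hom.app _).hom _))
    refine ((congrArg _ (heX m)).trans ?_).trans (congrArg _ (heZ m)).symm
    have hu' : Units.map i.appTop.hom.toMonoidHom
        (Units.ofPowEqOne ζ n (zeta_pow n hn ζ hζ) (by omega)) =
        Units.ofPowEqOne (i.appTop ζ) n (zeta_pow n hn (i.appTop ζ) hζZ) (by omega) := Units.ext rfl
    rw [← hu', ← map_zpow, Units.coe_map]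
    show (pullback.fst (EtCoh.top X).hom i).appTop _ =
      (pullback.snd (EtCoh.top X).hom i).appTop (i.appTop _)
    rw [← ConcreteCategory.comp_apply, ← Scheme.Hom.comp_appTop, ← pullback.condition, Scheme.Hom.comp_appTop,
      show (EtCoh.top X).hom.appTop = 𝟙 _ from rfl]
    rfl
  let ψ : SX.map (EtCoh.pull i) ⟶ SZ :=
    { τ₁ := (EtCore.pullConst i (ZMod n)).hom
      τ₂ := gmCmp i
      τ₃ := gmCmp i
      comm₁₂ := hsq.symm
      comm₂₃ := by
        show gmCmp i ≫ (n • 𝟙 (EtCoh.Gm Z)) = (EtCoh.pull i).map (n • 𝟙 (EtCoh.Gm X)) ≫ gmCmp i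
        rw [Preadditive.comp_nsmul, Category.comp_id, Functor.map_nsmul, CategoryTheory.Functor.map_id,
          Preadditive.nsmul_comp, Category.id_comp] }
  obtain ⟨c, hc⟩ := Ext.covariant_sequence_exact₂ (EtCoh.const X ℤ) hSX x (by
    show Ext.comp x (Ext.mk₀ (n • 𝟙 (EtCoh.Gm X))) (add_zero 2) = 0
    rw [KummerLib.comp_mk₀_nsmul]; exact hx)
  let w : EtCoh.H Z (EtCoh.const Z (ZMod n)) 2 :=
    Ext.comp (EtCore.Hpull i (EtCoh.const X (ZMod n)) 2 c) (Ext.mk₀ (EtCore.pullConst i (ZMod n)).hom) (add_zero 2)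
  have hw : Ext.comp w (Ext.mk₀ SZ.f) (add_zero 2) = 0 := by
    refine htor _ ?_
    have h1 : Ext.comp (Ext.comp w (Ext.mk₀ SZ.f) (add_zero 2)) (Ext.mk₀ SZ.g) (add_zero 2) = 0 := by
      rw [Ext.comp_assoc_of_third_deg_zero, Ext.mk₀_comp_mk₀, SZ.zero, Ext.mk₀_zero, Ext.comp_zero]
    rw [← KummerLib.comp_mk₀_nsmul]
    exact h1
  obtain ⟨b, hb⟩ := Ext.covariant_sequence_exact₁ (EtCoh.const Z ℤ) hSZ w hw (n₀ := 1) rfl
  obtain ⟨d, hd⟩ := hpic ((Ext.mk₀ (topIso' Z).inv).comp b (zero_add 1))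
  let dX : EtCoh.H X (EtCoh.Gm X) 1 := (Ext.mk₀ (topIso' X).hom).comp d (zero_add 1)
  have h2 : EtCore.Hpull i (EtCoh.const X (ZMod n)) 2 (Ext.comp dX hSX.extClass (rfl : 1 + 1 = 2)) =
      Ext.comp (EtCore.Hpull i (EtCoh.Gm X) 1 dX) (hSX.map_of_exact (EtCoh.pull i)).extClass (rfl : 1 + 1 = 2) := by
    show EtMV.T (EtCoh.pull i) (EtCore.pullConst i ℤ).inv _ 2 _ = _
    rw [EtMV.T_comp, Ext.mapExactFunctor_extClass]
    rfl
  have h3 : Ext.comp (Ext.comp (EtCore.Hpull i (EtCoh.Gm X) 1 dX) (hSX.map_of_exact (EtCoh.pull i)).extClass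
      (rfl : 1 + 1 = 2)) (Ext.mk₀ (EtCore.pullConst i (ZMod n)).hom) (add_zero 2) = w := by
    rw [Ext.comp_assoc_of_third_deg_zero]
    rw [show (hSX.map_of_exact (EtCoh.pull i)).extClass.comp (Ext.mk₀ (EtCore.pullConst i (ZMod n)).hom) (add_zero 1) =
      (Ext.mk₀ (gmCmp i)).comp hSZ.extClass (zero_add 1) from
        ShortComplex.ShortExact.extClass_naturality (hSX.map_of_exact (EtCoh.pull i)) hSZ ψ,
      ← Ext.comp_assoc (EtCore.Hpull i (EtCoh.Gm X) 1 dX) (Ext.mk₀ (gmCmp i)) hSZ.extClass (add_zero 1)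
        (zero_add 1) rfl, Hpull_topIso', hd, Ext.mk₀_comp_mk₀_assoc, Iso.hom_inv_id, Ext.mk₀_id_comp, hb]
  have hcan : ∀ a b : EtCoh.H Z ((EtCoh.pull i).obj (EtCoh.const X (ZMod n))) 2,
      Ext.comp a (Ext.mk₀ (EtCore.pullConst i (ZMod n)).hom) (add_zero 2) =
        Ext.comp b (Ext.mk₀ (EtCore.pullConst i (ZMod n)).hom) (add_zero 2) → a = b := fun a b h => by
    have := congrArg (fun t => Ext.comp t (Ext.mk₀ (EtCore.pullConst i (ZMod n)).inv) (add_zero 2)) h
    simpa [Ext.comp_assoc_of_third_deg_zero, Ext.mk₀_comp_mk₀] using this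
  have hcd : c = Ext.comp dX hSX.extClass (rfl : 1 + 1 = 2) := hinj (by rw [h2]; exact (hcan _ _ h3).symm)
  rw [← hc, hcd]
  show Ext.comp (Ext.comp dX hSX.extClass (rfl : 1 + 1 = 2)) (Ext.mk₀ SX.f) (add_zero 2) = 0
  rw [Ext.comp_assoc_of_third_deg_zero, hSX.extClass_comp, Ext.comp_zero]

end Groth.Agent.EtPBC
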